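import Mathlib
import Groth.Prelude.Def_Flatn

/-!
# The functor of relative morphisms into an open subscheme (helper19)
-/

set_option autoImplicit false

universe u

open CategoryTheory CategoryTheory.Limits AlgebraicGeometry Opposite

namespace Groth.Agent.Helper19.MorOpen

variable {S : Scheme.{u}}

/-- morphisms over `S` into an open subscheme are the morphisms with range in the open. -/
noncomputable def homEquivOfOpenImm {A B : Over S} (i : A ⟶ B) [IsOpenImmersion i.left] (T : Over S) :
    (T ⟶ A) ≃ {φ : T ⟶ B // Set.range φ.left ⊆ Set.range i.left} :=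
  Equiv.ofBijective (fun φ => ⟨φ ≫ i, by
    rintro _ ⟨t, rfl⟩
    exact ⟨φ.left t, rfl⟩⟩) (by
    constructor
    · intro φ ψ h
      have h1 : φ ≫ i = ψ ≫ i := congrArg Subtype.val h
      have h2 : φ.left ≫ i.left = ψ.left ≫ i.left := congrArg (fun k => k.left) h1
      exact Over.OverMorphism.ext ((cancel_mono i.left).1 h2)
    · rintro ⟨φ, hφ⟩
      refine ⟨Over.homMk (IsOpenImmersion.lift i.left φ.left hφ) ?_, ?_⟩
      · rw [← Over.w i, ← Category.assoc, IsOpenImmersion.lift_fac, Over.w φ]
      · apply Subtype.ext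
        apply Over.OverMorphism.ext
        exact IsOpenImmersion.lift_fac _ _ _)

theorem homEquivOfOpenImm_apply {A B : Over S} (i : A ⟶ B) [IsOpenImmersion i.left] (T : Over S)
    (φ : T ⟶ A) : ((homEquivOfOpenImm i T) φ).1 = φ ≫ i := rfl

end Groth.Agent.Helper19.MorOpen
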