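import Mathlib
import Groth.Prelude.Def_Flatn
import Groth.Agent.Lib.Helper19.MorOpen.Basic

/-!
# `Mor_S(X, U)` is open in `Mor_S(X, Y)` for `U ⊆ Y` open and `X` proper over `S` (helper19)
-/

set_option autoImplicit false

universe u

open CategoryTheory CategoryTheory.Limits AlgebraicGeometry Opposite

namespace Groth.Agent.Helper19.MorOpen

variable {X Y U S : Scheme.{u}} (gX : X ⟶ S) (gY : Y ⟶ S) (j : U ⟶ Y)

/-- the functor `T ↦ T ×_S X`. -/
noncomputable abbrev Fc : Over S ⥤ Over S := Over.pullback gX ⋙ Over.map gX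

/-- the base change square of `T ×_S X ⟶ M ×_S X` over `T ⟶ M`. -/
theorem isPullback_map {T M : Over S} (φ : T ⟶ M) :
    IsPullback ((Fc gX).map φ).left (pullback.fst T.hom gX) (pullback.fst M.hom gX) φ.left := by
  have h1 : ((Fc gX).map φ).left ≫ pullback.snd M.hom gX = pullback.snd T.hom gX := by
    simp only [Fc, Functor.comp_obj, Functor.comp_map, Over.map_map_left, Over.pullback_map_left]
    exact pullback.lift_snd _ _ _
  have h2 : ((Fc gX).map φ).left ≫ pullback.fst M.hom gX = pullback.fst T.hom gX ≫ φ.left := by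
    simp only [Fc, Functor.comp_obj, Functor.comp_map, Over.map_map_left, Over.pullback_map_left]
    exact pullback.lift_fst _ _ _
  refine IsPullback.of_right ?_ h2 (IsPullback.of_hasPullback M.hom gX).flip
  rw [h1, Over.w φ]
  exact (IsPullback.of_hasPullback T.hom gX).flip

variable {gX gY}

theorem homEquiv_eq {M : Over S} (e : (Flatn.morS gX gY).RepresentableBy M) {T : Over S} (φ : T ⟶ M) :
    e.homEquiv φ = (Fc gX).map φ ≫ e.homEquiv (𝟙 M) := by
  have := e.homEquiv_comp φ (𝟙 M)
  rw [Category.comp_id] at this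
  rw [this]
  rfl

section

variable [IsProper gX] {M : Over S} (e : (Flatn.morS gX gY).RepresentableBy M)

/-- the closed set of points of `M` over which the universal morphism leaves `U`. -/
def badSet : Set M.left :=
  (pullback.fst M.hom gX).base '' ((e.homEquiv (𝟙 M)).left.base ⁻¹' (Set.range j.base)ᶜ)

variable [IsOpenImmersion j]

theorem isClosed_badSet : IsClosed (badSet j e) := by
  haveI : IsProper (pullback.fst M.hom gX) := MorphismProperty.pullback_fst _ _ inferInstance
  apply (pullback.fst M.hom gX).isClosedMap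
  apply IsClosed.preimage (e.homEquiv (𝟙 M)).left.continuous
  exact j.isOpenEmbedding.isOpen_range.isClosed_compl

/-- the open subset of `M` over which the universal morphism lands in `U`. -/
def goodOpen : M.left.Opens := ⟨(badSet j e)ᶜ, (isClosed_badSet j e).isOpen_compl⟩

theorem range_subset_iff {T : Over S} (φ : T ⟶ M) :
    Set.range (e.homEquiv φ).left.base ⊆ Set.range j.base ↔
      Set.range φ.left.base ⊆ Set.range (goodOpen j e).ι.base := by
  rw [Scheme.Opens.range_ι, homEquiv_eq e φ]
  constructor
  · rintro h _ ⟨t, rfl⟩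
    rintro ⟨m', hm', hπ⟩
    obtain ⟨z, hz1, hz2⟩ := Scheme.exists_preimage_of_isPullback (isPullback_map gX φ) m' t hπ
    apply hm'
    have := h ⟨z, rfl⟩
    rw [Over.comp_left, Scheme.Hom.comp_base, TopCat.comp_app, hz1] at this
    exact this
  · rintro h _ ⟨z, rfl⟩
    by_contra hne
    have ht : φ.left.base ((pullback.fst T.hom gX).base z) ∈ (goodOpen j e : Set M.left) :=
      h ⟨_, rfl⟩
    apply ht
    refine ⟨((Fc gX).map φ).left.base z, ?_, ?_⟩
    · rw [Over.comp_left, Scheme.Hom.comp_base, TopCat.comp_app] at hne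
      exact hne
    · rw [← Scheme.Hom.comp_apply, (isPullback_map gX φ).w, Scheme.Hom.comp_apply]

end

end Groth.Agent.Helper19.MorOpen
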