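import Mathlib
import Groth.Prelude.Def_Flatn
import Groth.Agent.Lib.Helper19.MorOpen.Main

/-!
# The representing object of `Mor_S(X, U)` inside that of `Mor_S(X, Y)` (helper19)
-/

set_option autoImplicit false

universe u

open CategoryTheory CategoryTheory.Limits AlgebraicGeometry Opposite

namespace Groth.Agent.Helper19.MorOpen

variable {X Y U S : Scheme.{u}} {gX : X ⟶ S} {gY : Y ⟶ S} (j : U ⟶ Y)
  [IsProper gX] [IsOpenImmersion j] {M : Over S} (e : (Flatn.morS gX gY).RepresentableBy M)

/-- the inclusion of the good open, over `S`. -/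
noncomputable abbrev incl : Over.mk ((goodOpen j e).ι ≫ M.hom) ⟶ M := Over.homMk (goodOpen j e).ι rfl

/-- the open immersion `j`, over `S`. -/
abbrev jOver (gY : Y ⟶ S) : Over.mk (j ≫ gY) ⟶ Over.mk gY := Over.homMk j rfl

instance : IsOpenImmersion (incl j e).left := inferInstanceAs (IsOpenImmersion (goodOpen j e).ι)

instance : IsOpenImmersion (jOver j gY).left := inferInstanceAs (IsOpenImmersion j)

/-- the bijection representing `Mor_S(X, U)`. -/
noncomputable def homEquiv₀ (T : Over S) :
    (T ⟶ Over.mk ((goodOpen j e).ι ≫ M.hom)) ≃ (Flatn.morS gX (j ≫ gY)).obj (op T) :=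
  (homEquivOfOpenImm (incl j e) T).trans
    ((e.homEquiv.subtypeEquiv (fun φ => (range_subset_iff j e φ).symm)).trans
      (homEquivOfOpenImm (jOver j gY) ((Fc gX).obj T)).symm)

theorem homEquiv₀_comp (T : Over S) (φ : T ⟶ Over.mk ((goodOpen j e).ι ≫ M.hom)) :
    (homEquiv₀ j e T φ : (Fc gX).obj T ⟶ Over.mk (j ≫ gY)) ≫ jOver j gY = e.homEquiv (φ ≫ incl j e) := by
  have h := homEquivOfOpenImm_apply (jOver j gY) ((Fc gX).obj T) (homEquiv₀ j e T φ)
  rw [← h]
  unfold homEquiv₀
  simp only [Equiv.trans_apply]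
  erw [Equiv.apply_symm_apply]
  rfl

/-- the representation of `Mor_S(X, U)` by the good open. -/
noncomputable def rep₀ : (Flatn.morS gX (j ≫ gY)).RepresentableBy (Over.mk ((goodOpen j e).ι ≫ M.hom)) where
  homEquiv {T} := homEquiv₀ j e T
  homEquiv_comp {T T'} f g := by
    haveI : Mono (jOver j gY) := by
      haveI : Mono (jOver j gY).left := inferInstanceAs (Mono j)
      exact Over.mono_of_mono_left _
    have h1 := homEquiv₀_comp j e T (f ≫ g)
    have h2 := homEquiv₀_comp j e T' g
    rw [Category.assoc, e.homEquiv_comp f (g ≫ incl j e), ← h2] at h1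
    have h3 : (Flatn.morS gX gY).map f.op
        ((homEquiv₀ j e T' g : (Fc gX).obj T' ⟶ Over.mk (j ≫ gY)) ≫ jOver j gY) =
        ((Flatn.morS gX (j ≫ gY)).map f.op (homEquiv₀ j e T' g) : (Fc gX).obj T ⟶ Over.mk (j ≫ gY)) ≫
          jOver j gY := by
      rw [Flatn.morS_map, Flatn.morS_map, Category.assoc]
    rw [h3] at h1
    exact (cancel_mono (jOver j gY)).1 h1

end Groth.Agent.Helper19.MorOpen
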